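import Mathlib
import Cfsg.Agent.AltC.Full1

/-! An alternating subgroup controlling fusion and containing one involution centralizer is the whole group. -/

set_option autoImplicit false
set_option linter.unusedSectionVars false

namespace Cfsg.Agent.AltC

open Subgroup Cfsg.Agent.PLocal.Amb Equiv Equiv.Perm

universe u

section

variable {G : Type*} [Group G] [Finite G] {β : Type*} [Fintype β] [DecidableEq β]

def SC : D8 × Perm β →* Perm (B4 ⊕ β) := (sumCongrHom _ _).comp (rho.prodMap (MonoidHom.id _))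

theorem SC_inj : Function.Injective (SC (β := β)) := (injective_iff_map_eq_one _).2 fun u hu => by
  have := (map_eq_one_iff _ sumCongrHom_injective).1 hu
  exact Prod.ext (rho_inj _ (congrArg Prod.fst this)) (congrArg Prod.snd this :)

theorem sign_SC (d : D8) (σ : Perm β) : sign (SC (d, σ)) = sign (rho d) * sign σ := sign_sumCongr _ _

theorem card_SC (d : D8) (σ : Perm β) : (SC (d, σ)).support.card = (rho d).support.card + σ.support.card := by
  rw [← Finset.card_disjSum]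
  congr 1
  ext (a | b) <;> simp [SC]

theorem exists_SC {y : Perm (B4 ⊕ β)} (h : y * SC (zz, 1) = SC (zz, 1) * y) : ∃ d σ, y = SC (d, σ) := by
  obtain ⟨⟨a, σ⟩, rfl⟩ := mem_sumCongrHom_range_of_perm_mapsTo_inl (σ := y) (by
    rintro _ ⟨⟨b, c⟩, rfl⟩
    have h1 := congrArg (fun u : Perm (B4 ⊕ β) => u (.inl (b, c))) h
    rcases hx : y (.inl (b, c)) with a | r
    · exact ⟨a, rfl⟩
    · simp only [Perm.mul_apply, hx] at h1
      have := y.injective (h1.trans hx.symm)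
      simp [SC, rho_zz] at this)
  have h1 : sumCongrHom B4 β ((a, σ) * (rho zz, 1)) = sumCongrHom B4 β ((rho zz, 1) * (a, σ)) := by
    rw [map_mul, map_mul]; exact h
  obtain ⟨d, rfl⟩ := rho_cent a (congrArg Prod.fst (sumCongrHom_injective h1))
  exact ⟨d, σ, rfl⟩

theorem sign_X {d : D8} (h : inX true d) : sign (rho d) = 1 := by
  rcases h with rfl | rfl | rfl | rfl <;> simp [sign_z, sign_v]

theorem card_rho : ∀ d, inX true d → d ≠ 1 → (rho d).support.card = 4 := by decide +kernel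

def kap : XX true →* alternatingGroup (B4 ⊕ β) :=
  (SC.comp ((MonoidHom.inl _ _).comp (XX true).subtype)).codRestrict _ fun d => by
    change sign (SC (d.1, 1)) = 1
    rw [sign_SC, sign_X d.2]; simp

def rr : alternatingGroup β →* alternatingGroup (B4 ⊕ β) :=
  (SC.comp ((MonoidHom.inr _ _).comp (alternatingGroup β).subtype)).codRestrict _ fun σ => by
    change sign (SC (1, σ.1)) = 1
    rw [sign_SC, mem_alternatingGroup.1 σ.2]; simp

theorem kap_rr (d : XX true) (σ : alternatingGroup β) :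
    ((kap d * rr σ : alternatingGroup (B4 ⊕ β)) : Perm (B4 ⊕ β)) = SC (d.1, σ.1) := by
  change SC (d.1, 1) * SC (1, σ.1) = _
  rw [← map_mul]; simp

theorem kap_rr_inj {d d' : XX true} {σ σ' : alternatingGroup β} (h : kap d * rr σ = kap d' * rr σ') :
    d = d' ∧ σ = σ' := by
  have := congrArg Subtype.val h
  rw [kap_rr, kap_rr, SC_inj.eq_iff, Prod.mk.injEq] at this
  exact ⟨Subtype.ext this.1, Subtype.ext this.2⟩

theorem fx_kap_rr (d : XX true) (σ : alternatingGroup β) : Fx (kap d) (rr σ) := fx_of_comm (Subtype.ext (by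
  rw [kap_rr]
  change _ = SC (1, σ.1) * SC (d.1, 1)
  rw [← map_mul]; simp))

theorem sp_kap_rr {d : XX true} (h : d ≠ 1) (σ : alternatingGroup β) : sp (kap d * rr σ) = 4 + sp σ := by
  rw [sp, kap_rr, card_SC, card_rho _ d.2 fun e => h (Subtype.ext e)]

theorem sp_rr (σ : alternatingGroup β) : sp (rr σ) = sp σ := by
  change (SC (1, σ.1)).support.card = _
  rw [card_SC]; simp

theorem kap_rr_sq (d : XX true) {σ : alternatingGroup β} (h : σ * σ = 1) : kap d * rr σ * (kap d * rr σ) = 1 :=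
  Subtype.ext (by
    rw [Subgroup.coe_mul, kap_rr, ← map_mul, Prod.mk_mul_mk, inX_sq d.2, ← Subgroup.coe_mul, h]
    exact map_one _)

def z4 : XX true := ⟨zz, inX_zz _⟩
def v4 : XX true := ⟨xx true, inX_xx _⟩

theorem conj_kap {k : alternatingGroup (B4 ⊕ β)} (hk : Fx k (kap z4)) :
    (k * kap v4 * k⁻¹ = kap v4 ∨ k * kap v4 * k⁻¹ = kap v4 * kap z4) ∧
    (∀ σ : alternatingGroup β, ∃ σ', k * rr σ * k⁻¹ = rr σ' ∧ sp σ' = sp σ) ∧
    (Fx k (kap v4) → ∃ d σ, k = kap d * rr σ) := by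
  obtain ⟨d, τ, h⟩ := exists_SC (y := k.1) (congrArg Subtype.val hk.comm)
  have h1 : ((k * kap v4 * k⁻¹ : alternatingGroup _) : Perm (B4 ⊕ β)) = SC (d * xx true * d⁻¹, 1) := by
    change k.1 * SC (xx true, 1) * k.1⁻¹ = _
    rw [h, ← map_inv, ← map_mul, ← map_mul]; simp
  refine ⟨?_, fun σ => ⟨⟨τ * σ * τ⁻¹, by simp [mem_alternatingGroup.1 σ.2]⟩, Subtype.ext ?_, card_support_conj⟩,
    fun h2 => ?_⟩
  · rw [← map_mul]
    simp only [Subtype.ext_iff, h1]
    rcases (by decide : ∀ d : D8, d * xx true * d⁻¹ = xx true ∨ d * xx true * d⁻¹ = xx true * zz) d with e | e <;>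
      rw [e]
    exacts [Or.inl rfl, Or.inr rfl]
  · change k.1 * SC (1, σ.1) * k.1⁻¹ = SC (1, τ * σ.1 * τ⁻¹)
    rw [h, ← map_inv, ← map_mul, ← map_mul]; simp
  · rw [h2] at h1
    have h3 : inX true d := (by decide : ∀ d : D8, xx true = d * xx true * d⁻¹ → inX true d) d
      (congrArg Prod.fst (SC_inj h1))
    have h4 := mem_alternatingGroup.1 k.2
    rw [h, sign_SC, sign_X h3, one_mul] at h4
    exact ⟨⟨d, h3⟩, ⟨τ, h4⟩, Subtype.ext (by rw [kap_rr, h])⟩

theorem X4_cases (d : XX true) : d = 1 ∨ d = z4 ∨ d = v4 ∨ d = v4 * z4 := by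
  obtain ⟨d, hd⟩ := d
  simp only [Subtype.ext_iff]
  exact hd

theorem card_union_le {α : Type*} [Fintype α] [DecidableEq α] {f g : Perm α} (h1 : f.support.card = 4)
    (h2 : g.support.card = 4) (h3 : (f * g).support.card = 4) : (f.support ∪ g.support).card ≤ 6 := by
  have h4 : (f.support ∪ g.support) \ (f.support ∩ g.support) ⊆ (f * g).support := fun t ht => by
    simp only [Finset.mem_sdiff, Finset.mem_union, Finset.mem_inter, mem_support, Perm.mul_apply] at ht ⊢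
    intro e
    by_cases hg : g t = t
    · rw [hg] at e; tauto
    · have hf : f t = t := by tauto
      exact hg (f.injective (e.trans hf.symm))
  have h5 := Finset.card_le_card h4
  rw [Finset.card_sdiff_of_subset Finset.inter_subset_union] at h5
  have h6 := Finset.card_union_add_card_inter f.support g.support
  omega

variable {ψ : alternatingGroup (B4 ⊕ β) →* G} {n r : ℕ}

theorem FH.cent_V {G : Type u} [Group G] [Finite G] {ψ : alternatingGroup (B4 ⊕ β) →* G} (h : FH ψ)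
    (hr : r = 2 ∨ r = 3) (hα : Fintype.card (B4 ⊕ β) = 4 * n + r)
    {y : alternatingGroup β} (hy : y * y = 1) (hC : Cn ψ (kap z4 * rr y))
    (ih : ∀ (K : Type u) [Group K] [Finite K] (ψ' : alternatingGroup β →* K), FH ψ' → Cn ψ' y → ψ'.range = ⊤)
    {g : G} (h1 : Fx g (ψ (kap z4))) (h2 : Fx g (ψ (kap v4))) : g ∈ ψ.range := by
  haveI : Fact (Nat.Prime 2) := ⟨Nat.prime_two⟩
  let Q := (ψ.comp kap).range
  let D := (ψ.comp rr).range
  let X := 𝐂[Q]
  have hX : ∀ {g}, g ∈ X ↔ Fx g (ψ (kap z4)) ∧ Fx g (ψ (kap v4)) := fun {g} => by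
    refine ⟨fun H => ⟨fx_of_comm (H _ ⟨_, rfl⟩).symm, fx_of_comm (H _ ⟨_, rfl⟩).symm⟩, ?_⟩
    rintro ⟨h1, h2⟩ _ ⟨d, rfl⟩
    refine (Fx.comm ?_).symm
    rcases X4_cases d with rfl | rfl | rfl | rfl
    · rw [map_one]; exact fx_one g
    · exact h1
    · exact h2
    · rw [map_mul]; exact h2.mul h1
  have hQc : ∀ q ∈ Q, ∀ y ∈ X, Fx q y := fun q hq y hy => fx_of_comm (hy q hq)
  have hDX : D ≤ X := by
    rintro _ ⟨σ, rfl⟩
    exact hX.2 ⟨((fx_kap_rr _ σ).map ψ).symm, ((fx_kap_rr _ σ).map ψ).symm⟩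
  have hQ2 : ∀ q ∈ Q, q * q = 1 := by
    rintro _ ⟨d, rfl⟩
    rw [← map_mul, show d * d = 1 from Subtype.ext (inX_sq d.2), map_one]
  have hQX : Q ≤ X := fun q hq q' hq' => comm_of_sq hQ2 hq' hq
  have hXH : ∀ g ∈ X, g ∈ ψ.range → ∃ d σ, g = ψ (kap d) * ψ (rr σ) := by
    rintro _ hg ⟨k, rfl⟩
    obtain ⟨d, σ, rfl⟩ := (conj_kap ((hX.1 hg).1.of_map h.inj)).2.2 ((hX.1 hg).2.of_map h.inj)
    exact ⟨d, σ, map_mul _ _ _⟩
  have hu := kap_rr_sq z4 hy
  obtain ⟨T, hT, huT⟩ := exists_isSyl_ge (L := X) (R := zpowers (ψ (kap z4 * rr y)))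
    (isPGroup_zpowers ⟨1, by rw [pow_one, sq, ← map_mul, hu, map_one]⟩)
    (zpowers_le.2 (by rw [map_mul]; exact mul_mem (hQX ⟨_, rfl⟩) (hDX ⟨_, rfl⟩)))
  have hTH := h.le_of_pgroup hr hα hC hu hT.pgrp (huT (mem_zpowers _))
  have hKQ := pRes_inf_eq_bot hDX hQX hQc hQ2 (by
      rw [eq_bot_iff]
      rintro _ ⟨⟨σ, rfl⟩, d, hd⟩
      have h3 : kap d * rr 1 = kap 1 * rr σ := by simpa using h.inj hd
      rw [← (kap_rr_inj h3).2, map_one]; exact one_mem _)
    (Nat.not_even_iff_odd.1 fun e => hT.not_dvd_relIndex ((even_iff_two_dvd.1 e).trans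
      (relIndex_dvd_of_le_left _ fun t ht => by
        obtain ⟨d, σ, rfl⟩ := hXH t (hT.le ht) (hTH ht)
        exact mul_mem (mem_sup_right ⟨d, rfl⟩) (mem_sup_left ⟨σ, rfl⟩))))
  have hDK : ∀ σ, (ψ.comp rr) σ ∈ 𝐎[2, X] := fun σ => by
    have : (⊤ : Subgroup (alternatingGroup β)) ≤ (𝐎[2, X]).comap (ψ.comp rr) := by
      rw [← alternatingGroup.closure_isThreeCycles_eq_top, closure_le]
      intro c hc
      refine mem_pRes_cube (hDX ⟨c, rfl⟩) ?_
      rw [← map_pow, show c ^ 3 = 1 from Subtype.ext (by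
        rw [Subgroup.coe_pow, ← IsThreeCycle.orderOf hc, pow_orderOf_eq_one]; rfl), map_one]
    exact this trivial
  have hKH : ∀ g ∈ 𝐎[2, X], g ∈ ψ.range → g ∈ D := fun g hg hg' => by
    obtain ⟨d, σ, rfl⟩ := hXH g (pRes_le _ _ hg) hg'
    have h3 : ψ (kap d) ∈ 𝐎[2, X] ⊓ Q := ⟨(mul_mem_cancel_right (hDK σ)).1 hg, ⟨d, rfl⟩⟩
    rw [hKQ, mem_bot] at h3
    rw [h3, one_mul]; exact ⟨σ, rfl⟩
  have hrange : ((ψ.comp rr).codRestrict _ hDK).range = D.subgroupOf 𝐎[2, X] := by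
    ext ⟨g, hg⟩
    simp [D, mem_subgroupOf, Subtype.ext_iff]
  have h3 := ih 𝐎[2, X] ((ψ.comp rr).codRestrict _ hDK)
    ⟨fun a b e => (kap_rr_inj (d := 1) (d' := 1) (by simpa using h.inj (congrArg Subtype.val e))).2, by
      rw [hrange]
      exact Nat.not_even_iff_odd.1 fun e => (hT.inf_of_le (pRes_le _ _) (le_normalizer_pRes _ _)).not_dvd_relIndex
        ((even_iff_two_dvd.1 e).trans (relIndex_dvd_of_le_left _ fun t ht => hKH t ht.2 (hTH ht.1))),
      fun a b g ha e => by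
        change sp a = sp b
        rw [← sp_rr a, ← sp_rr b]
        exact h.fus _ _ g (by rw [← map_mul, ha, map_one]) (congrArg Subtype.val e)⟩
    (fun g hg => by
      rw [hrange]
      refine hKH _ g.2 (hC _ ?_)
      rw [map_mul]
      exact (hX.1 (pRes_le _ _ g.2)).1.mul (congrArg Subtype.val hg))
  rw [hrange, subgroupOf_eq_top] at h3
  have h4 : X ≤ ψ.range := by
    rw [← hT.pRes_sup]
    refine sup_le (h3.trans ?_) hTH
    rintro _ ⟨σ, rfl⟩
    exact ⟨_, rfl⟩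
  exact h4 (hX.2 ⟨h1, h2⟩)

theorem FH.cn_one (h : FH ψ) (hr : r = 2 ∨ r = 3) (hα : Fintype.card (B4 ⊕ β) = 4 * n + r)
    {y : alternatingGroup β} (hy : y * y = 1) (hy1 : y ≠ 1) (hC : Cn ψ (kap z4 * rr y))
    (hV : ∀ g, Fx g (ψ (kap z4)) → Fx g (ψ (kap v4)) → g ∈ ψ.range) : Cn ψ (kap z4) := by
  have hu := kap_rr_sq z4 hy
  have z1 : z4 ≠ 1 := by decide
  have sq1 : ∀ d : XX true, kap (β := β) d * kap d = 1 := fun d => by simpa using kap_rr_sq (β := β) d (one_mul 1)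
  have sp1 : ∀ d : XX true, d ≠ 1 → sp (kap (β := β) d) = 4 := fun d hd => by simpa [sp] using sp_kap_rr (β := β) hd 1
  have zv : Fx (kap (β := β) v4) (kap z4) := Fx.map kap (by unfold Fx; decide)
  have hU : Ua ψ.range (ψ (kap z4)) (ψ (kap v4)) := by
    rintro g h1 ⟨f, hf⟩
    have f1 := h.fus _ _ g (sq1 v4) hf.symm
    have f2 := h.fus (kap (z4 * v4)) (kap z4 * f) g (sq1 _) (by
      rw [map_mul, map_mul, map_mul, conj_mul_conj, h1, hf])
    have f3 := card_union_le (sp1 z4 z1) (f1.symm.trans (sp1 v4 (by decide))) (f2.symm.trans (sp1 _ (by decide)))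
    obtain ⟨c, hc⟩ := sp_dvd hy
    have f4 := sp_le y
    simp only [Fintype.card_sum, Fintype.card_prod, Fintype.card_bool] at hα
    obtain ⟨y', y1, y2, y3⟩ := exists_inv_disjoint ((kap z4 : alternatingGroup (B4 ⊕ β)).1.support ∪ f.1.support)
      (j := c) (by simp only [Fintype.card_sum, Fintype.card_prod, Fintype.card_bool]; omega)
    have dis : ∀ w : alternatingGroup (B4 ⊕ β), w.1.support ⊆ (kap z4 : alternatingGroup (B4 ⊕ β)).1.support ∪
        f.1.support → Perm.Disjoint w.1 y'.1 := fun w hw t => by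
      by_cases ht : t ∈ w.1.support
      exacts [Or.inr (y3 t (hw ht)), Or.inl (notMem_support.1 ht)]
    have d1 := dis _ Finset.subset_union_left
    have d2 := dis _ Finset.subset_union_right
    have c1 : Fx y' (kap z4) := fx_of_comm (Subtype.ext d1.commute.symm)
    have c2 : Fx y' f := fx_of_comm (Subtype.ext d2.commute.symm)
    have c3 : Fx (ψ (kap z4)) (ψ f) := by rw [hf, ← h1, fx_conj]; exact (zv.map ψ).symm
    have u1 : kap z4 * y' * (kap z4 * y') = 1 := by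
      rw [mul_assoc, ← mul_assoc y', c1.comm, mul_assoc, y1, mul_one, sq1]
    have u2 : Cn ψ (kap z4 * y') := h.cn_of_sp (n := n) hr (by simp; omega) hC hu u1 (by
      rw [sp_kap_rr z1, hc, sp, Subgroup.coe_mul, d1.card_support_mul, y2]; exact congrArg (· + _) (sp1 z4 z1).symm)
    refine (inv_mem_iff (x := g)).1 (h.uu (n := n) hr (by simp; omega) u2 u1 (hV _ ?_ ?_))
    · rw [← h1.inv_left, fx_conj, map_mul]; exact (fx_self _).mul_left (c1.map ψ)
    · rw [show ψ (kap v4) = g⁻¹ * ψ f * g⁻¹⁻¹ by rw [hf]; group, fx_conj, map_mul]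
      exact c3.mul_left (c2.map ψ)
  have us : Fx (kap z4 * rr y) (kap z4) := (fx_self _).mul_left (fx_kap_rr _ _).symm
  intro g hg
  refine cent_le (H := ψ.range) (a := ψ (kap z4)) (x := ψ (kap v4)) (s := ψ (kap z4 * rr y)) ⟨_, rfl⟩ ⟨_, rfl⟩
    ⟨_, rfl⟩ (by rw [← map_mul, sq1, map_one]) (by rw [← map_mul, sq1, map_one]) (by rw [← map_mul, hu, map_one])
    (zv.map ψ) (us.map ψ) hU (h.ua hr hα hC hu _) ?_ ?_ ?_ hg
  · rintro _ ⟨k, rfl⟩ hk
    simp only [← map_inv, ← map_mul, h.inj.ne_iff]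
    have key : ∀ d d' : XX true, kap d ≠ kap d' * rr y := fun d d' e =>
      hy1 (kap_rr_inj (d := d) (σ := 1) (by simpa using e)).2.symm
    rw [mul_assoc (kap z4), ← (fx_kap_rr _ _).comm, ← mul_assoc, ← map_mul]
    rcases (conj_kap (hk.of_map h.inj)).1 with e | e <;> rw [e]
    · exact ⟨key _ _, key _ _⟩
    · rw [← map_mul]; exact ⟨key _ _, key _ _⟩
  · rintro _ ⟨k, rfl⟩ hk w e w1 wa -
    rw [← map_inv, ← map_mul, ← map_mul] at e
    rcases (conj_kap (hk.of_map h.inj)).1 with e' | e' <;> rw [e'] at e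
    · exact absurd (mul_eq_left.1 e) w1
    · rw [map_mul] at e; exact absurd (mul_left_cancel e) wa
  · rintro _ ⟨k, rfl⟩ hk w e - - -
    have hk' := hk.of_map h.inj
    obtain ⟨σ, h1, h2⟩ := (conj_kap hk').2.1 y
    rw [← map_inv, ← map_mul, ← map_mul, conj_mul_conj, h1, hk'] at e
    have h3 : σ * σ = 1 := (kap_rr_inj (d := 1) (d' := 1) (by
      rw [map_mul rr, ← h1, conj_mul, ← map_mul rr, hy]; simp)).2
    obtain rfl : w = ψ (kap (v4 * z4) * rr σ) := by
      rw [map_mul kap, mul_assoc, map_mul ψ, ← e, ← mul_assoc, ← map_mul, sq1, map_one, one_mul]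
    exact h.ua hr hα (h.cn_of_sp hr hα hC hu (kap_rr_sq _ h3) (by
      rw [sp_kap_rr z1, sp_kap_rr (by decide), h2])) (kap_rr_sq _ h3) _

end

theorem FH.full {r : ℕ} (hr : r = 2 ∨ r = 3) (n : ℕ) : ∀ {G : Type u} [Group G] [Finite G] {α : Type} [Fintype α]
    [DecidableEq α] {ψ : alternatingGroup α →* G}, FH ψ → Fintype.card α = 4 * n + r →
    ∀ {a}, a * a = 1 → a ≠ 1 → Cn ψ a → ψ.range = ⊤ := by
  induction n with
  | zero =>
    intro G _ _ α _ _ ψ _ hα a ha ha1 _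
    have h1 := sp_dvd ha
    have h2 := sp_pos ha1
    have h3 := sp_le a
    omega
  | succ n ih =>
    intro G _ _ α _ _ ψ h hα a ha ha1 hC
    rcases n.eq_zero_or_pos with rfl | hn
    · exact h.base hr hα ha ha1 hC
    refine h.top_of_all hr hα (by omega) fun y hy y4 => ?_
    obtain ⟨c, hc⟩ := sp_dvd ha
    have h2 := sp_pos ha1
    have h3 := sp_le a
    by_cases h4 : sp a = 4
    · exact h.cn_of_sp hr hα hC ha hy (by omega)
    have hβ : Fintype.card (B4 ⊕ Fin (4 * n + r)) = 4 * (n + 1) + r := by simp; omega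
    let e := Fintype.equivOfCardEq (hβ.trans hα.symm)
    obtain ⟨h', hrange⟩ := h.comp_equiv e
    have tr : ∀ w, Cn (ψ.comp e.altCongrHom.toMonoidHom) w ↔ Cn ψ (e.altCongrHom w) := fun w => by
      rw [Cn, hrange]; rfl
    obtain ⟨y₀, y1, y2, -⟩ := exists_inv_disjoint (α := Fin (4 * n + r)) ∅ (j := c - 1) (by simp; omega)
    have y3 : y₀ ≠ 1 := fun e => by simp [e] at y2; omega
    have z1 : z4 ≠ 1 := by decide
    have hC' : Cn (ψ.comp e.altCongrHom.toMonoidHom) (kap z4 * rr y₀) :=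
      (tr _).2 (h.cn_of_sp hr hα hC ha (by rw [← map_mul, kap_rr_sq _ y1, map_one]) (by
        rw [sp, sp, support_altCongr, ← sp, ← sp, sp_kap_rr z1]; unfold sp at *; omega))
    have h5 := h'.cn_one hr hβ y1 y3 hC' fun g => h'.cent_V hr hβ y1 hC' fun K _ _ ψ' h6 h7 =>
      ih h6 (by simp) y1 y3 h7
    refine h.cn_of_sp hr hα ((tr _).1 h5) ?_ hy ?_
    · simpa [← map_mul] using congrArg e.altCongrHom (kap_rr_sq z4 (one_mul 1))
    · rw [y4, sp, support_altCongr]
      simpa [sp] using sp_kap_rr (β := Fin (4 * n + r)) z1 1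

end Cfsg.Agent.AltC
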