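import Mathlib
import Cfsg.Agent.AltC.Model
import Cfsg.Agent.Transfer.ThompsonExtremal

/-! Relabellings of `J`, and the activities obtained by transfer. -/

set_option autoImplicit false
set_option linter.unusedSectionVars false

namespace Cfsg.Agent.AltC

open Subgroup Cfsg.Agent.PLocal.Amb Equiv Equiv.Perm

variable {G : Type*} [Group G]

def tvSub (R : Subgroup G) (g a : G) (h1 : ∀ y ∈ R, Fx y a) (h2 : a * a = 1) : Subgroup G where
  carrier := {y | y ∈ R ∧ (Fx g y ∨ g * y * g⁻¹ = y * a)}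
  one_mem' := ⟨one_mem _, Or.inl (fx_one g)⟩
  mul_mem' := by
    rintro y y' ⟨hy, h3⟩ ⟨hy', h4⟩
    refine ⟨mul_mem hy hy', ?_⟩
    have c := (h1 y' hy').comm
    rcases h3 with h3 | h3 <;> rcases h4 with h4 | h4
    · exact Or.inl (h3.mul h4)
    · right; rw [conj_mul_conj, h3, h4, mul_assoc]
    · right; rw [conj_mul_conj, h3, h4, mul_assoc, ← c, mul_assoc]
    · left; rw [Fx, conj_mul_conj, h3, h4, mul_assoc, ← mul_assoc a, ← c, mul_assoc y', h2, mul_one]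
  inv_mem' := by
    rintro y ⟨hy, h3 | h3⟩
    · exact ⟨inv_mem hy, Or.inl h3.inv⟩
    · refine ⟨inv_mem hy, Or.inr ?_⟩
      rw [← conj_inv, h3, (h1 y hy).comm, mul_inv_rev, inv_eq_of_mul_eq_one_right h2]

def du0 : D8 → D8
  | DihedralGroup.r i => DihedralGroup.r (-i)
  | DihedralGroup.sr i => DihedralGroup.sr (1 - i)

def du : D8 →* D8 := MonoidHom.mk' du0 (by decide)

namespace Sig

variable {ι : Type*} [DecidableEq ι] [Fintype ι] [Finite G] {S : Sig G ι}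

theorem exists_comp (S : Sig G ι) (α : (ι → D8) →* (ι → D8)) (h : ∀ d, α (α d) = d) (hz : ∀ i, α (ms i zz) = ms i zz) :
    ∃ S' : Sig G ι, S'.J = S.J ∧ (∀ i, S'.z i = S.z i) ∧ ∀ d, S'.φ d = S.φ (α d) := by
  have h1 : (S.φ.comp α).range = S.φ.range := by
    rw [MonoidHom.range_comp, MonoidHom.range_eq_top.2 (Function.RightInverse.surjective h), ← MonoidHom.range_eq_map]
  refine ⟨⟨S.φ.comp α, S.inj.comp (Function.LeftInverse.injective h), fun g hg h2 => ?_⟩, h1,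
    fun i => congrArg S.φ (hz i), fun _ => rfl⟩
  rw [h1] at hg ⊢
  exact S.cz g hg fun i => by simpa only [MonoidHom.comp_apply, hz] using h2 i

theorem zs_congr {S' : Sig G ι} (h : ∀ i, S'.z i = S.z i) (s : Finset ι) : S'.φ (zs s) = S.φ (zs s) := by
  induction s using Finset.induction_on with
  | empty => rw [zs_empty, map_one, map_one]
  | insert j s hj ih => rw [zs_insert hj, map_mul, map_mul, ih, z_eq, z_eq, h]

theorem tw1 (S : Sig G ι) (A B : Finset ι) : ∃ S' : Sig G ι, S'.J = S.J ∧ (∀ i, S'.z i = S.z i) ∧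
    (∀ i, S'.x i true = S.x i true) ∧ ∀ i, S'.x i false = S.x i false * if i ∈ A then S.φ (zs B) else 1 := by
  let χ : (ι → D8) →* ℤˣ := ∏ i ∈ A, (sign.comp rho).comp (Pi.evalMonoidHom _ i)
  have h0 : ∀ d, χ d = ∏ i ∈ A, sign (rho (d i)) := fun d => by simp [χ]
  have h1 : ∀ i e, χ (ms i e) = if i ∈ A then sign (rho e) else 1 := fun i e => by
    rw [h0, ← Finset.prod_ite_eq A i fun _ => sign (rho e)]
    refine Finset.prod_congr rfl fun l _ => ?_
    by_cases h : i = l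
    · rw [if_pos h, h, ms_same]
    · rw [if_neg h, ms_ne (Ne.symm h)]; simp
  have h2 : χ (zs B) = 1 := by
    rw [h0]; exact Finset.prod_eq_one fun i _ => by unfold zs; split_ifs <;> simp [sign_z]
  let c : ℤˣ → ι → D8 := fun ε => if ε = 1 then 1 else zs B
  have c1 : c 1 = 1 := if_pos rfl
  have c2 : c (-1) = zs B := if_neg (by decide)
  let α : (ι → D8) →* (ι → D8) := MonoidHom.mk' (fun d => d * c (χ d)) fun a b => by
    rw [map_mul]
    rcases Int.units_eq_one_or (χ a) with h | h <;> rcases Int.units_eq_one_or (χ b) with h' | h' <;>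
      simp only [h, h', mul_one, one_mul, neg_mul_neg, c1, c2, mul_assoc]
    · rw [zs_comm]
    · rw [zs_comm B b, ← mul_assoc (zs B), zs_sq, one_mul]
  obtain ⟨S', e1, e2, e3⟩ := S.exists_comp α (fun d => by
      change d * c (χ d) * c (χ (d * c (χ d))) = d
      rcases Int.units_eq_one_or (χ d) with h | h <;> simp only [h, c1, c2, mul_one, map_mul, h2]
      rw [mul_assoc, zs_sq, mul_one])
    (fun i => by change _ * c (χ _) = _; rw [h1, sign_z, ite_self, c1, mul_one])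
  refine ⟨S', e1, e2, fun i => ?_, fun i => ?_⟩
  · rw [x, e3]; change S.φ (_ * c (χ _)) = _
    rw [h1, sign_v, ite_self, c1, mul_one, x]
  · rw [x, e3]; change S.φ (_ * c (χ _)) = _
    rw [h1, sign_w, map_mul, x]
    split_ifs
    · rw [c2]
    · rw [c1, map_one]

theorem tw2 (S : Sig G ι) (j : ι) : ∃ S' : Sig G ι, S'.J = S.J ∧ (∀ i, S'.z i = S.z i) ∧
    (∀ b, S'.x j b = S.x j (!b)) ∧ ∀ i, i ≠ j → ∀ b, S'.x i b = S.x i b := by
  let α : (ι → D8) →* (ι → D8) := MonoidHom.mk' (fun d l => if l = j then du (d l) else d l) fun a b => by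
    funext l
    by_cases h : l = j <;> simp [h]
  have h1 : ∀ i e, α (ms i e) = ms i (if i = j then du e else e) := fun i e => funext fun l => by
    change (if l = j then du (ms i e l) else ms i e l) = _
    by_cases h : l = i
    · rw [h, ms_same, ms_same]
    · rw [ms_ne h, ms_ne h, map_one, ite_self]
  obtain ⟨S', e1, e2, e3⟩ := S.exists_comp α (fun d => funext fun l => by
      change (if l = j then du (if l = j then du (d l) else d l) else if l = j then du (d l) else d l) = _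
      split_ifs
      exacts [(by decide : ∀ e, du (du e) = e) _, rfl])
    (fun i => by rw [h1, show du zz = zz by decide, ite_self])
  exact ⟨S', e1, e2, fun b => by rw [x, e3, h1, if_pos rfl, (by decide : ∀ b, du (xx b) = xx (!b)), x],
    fun i hi b => by rw [x, e3, h1, if_neg hi, x]⟩

theorem mem_E_iff {γ : ι → Bool} {y : G} : y ∈ S.E γ ↔ y ∈ S.J ∧ ∀ i, Fx (S.x i (γ i)) y :=
  ⟨fun h => ⟨S.E_le _ h, fun i => fx_of_comm (comm_of_sq S.E_sq (S.x_mem_E _ i) h)⟩,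
    fun h => S.mem_E_of_fx h.1 h.2⟩

theorem fx_mul_central {u c y : G} (hc : Fx c y) : Fx (u * c) y ↔ Fx u y :=
  ⟨fun h => by simpa using h.mul_left hc.inv_left, fun h => h.mul_left hc⟩

theorem fx_zs_J (s : Finset ι) {y : G} (hy : y ∈ S.J) : Fx (S.φ (zs s)) y := fx_of_comm (S.zs_comm' s hy).symm

theorem Act.congr {S' : Sig G ι} (hJ : S'.J = S.J) (hz : ∀ i, S'.z i = S.z i)
    (hx : ∀ i b, ∀ y ∈ S.J, Fx (S'.x i b) y ↔ Fx (S.x i b) y) {i : ι} {b : Bool} {g a : G} (A : S.Act i b g a) :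
    S'.Act i b g a := by
  refine ⟨A.sq, fun y hy => A.act y ?_, ?_, hz i ▸ A.mv, fun j hj => hz j ▸ A.fx j hj⟩
  · rw [mem_R_iff, hJ] at hy
    exact S.mem_R_iff.2 ⟨hy.1, (hx _ _ _ hy.1).1 hy.2⟩
  · obtain ⟨h1, h2⟩ := co_iff.1 A.co
    exact co_iff.2 ⟨hJ ▸ h1, by simpa only [hx _ _ _ h1] using h2⟩

theorem Act.root {i : ι} {b : Bool} {g a : G} (A : S.Act i b g a) : ∃ s, a = S.x i b * S.φ (zs s) := by
  obtain ⟨d, rfl, h1, h2, h3⟩ := A.co
  obtain ⟨s, hs⟩ := exists_zs (d := ms i (xx b) * d) fun l => by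
    by_cases hl : l = i
    · rw [hl, Pi.mul_apply, ms_same]
      exact (by decide : ∀ (b : Bool) (d : D8), inX b d → ¬ inZ d → inZ (xx b * d)) b _ h1 h2
    · rw [Pi.mul_apply, ms_ne hl, one_mul]; exact h3 l hl
  exact ⟨s, by rw [← hs, map_mul, x_eq, ← mul_assoc, x_sq, one_mul]⟩

theorem Act.root' {i : ι} {g a : G} (A : S.Act i false g a) :
    ∃ β s, i ∉ s ∧ a = S.b (some (i, β)) * S.φ (zs s) := by
  obtain ⟨s, rfl⟩ := A.root
  by_cases hi : i ∈ s
  · refine ⟨true, s.erase i, by simp, ?_⟩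
    conv_lhs => rw [← Finset.insert_erase hi, zs_insert (Finset.notMem_erase i s), map_mul, ← mul_assoc]
    rfl
  · exact ⟨false, s, hi, rfl⟩

theorem tv_of_gen {γ : ι → Bool} {j : ι} {g : G} (h1 : ∀ l, Fx g (S.x l (γ l))) (h2 : ∀ l, l ≠ j → Fx g (S.z l))
    (h3 : g * S.z j * g⁻¹ = S.z j * S.x j (γ j)) : Tv (S.E γ) g (S.x j (γ j)) ∧ ¬ Fx g (S.z j) := by
  have mv : ¬ Fx g (S.z j) := fun h => x_ne_one j _ (left_eq_mul.1 (Eq.trans (Eq.symm h) h3))
  have h4 := S.E_le_of (γ := γ) (H := tvSub (S.E γ) g (S.x j (γ j))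
    (fun y hy => fx_of_comm (comm_of_sq S.E_sq hy (S.x_mem_E _ _))) (S.x_sq _ _))
    (fun l => ⟨S.z_mem_E _ _, by
      by_cases hl : l = j
      exacts [Or.inr (hl ▸ h3), Or.inl (h2 l hl)]⟩) fun l => ⟨S.x_mem_E _ _, Or.inl (h1 l)⟩
  refine ⟨⟨mem_normalizer_of_cj_le (cj_le_iff_forall.2 fun y hy => ?_), fun y hy => (h4 hy).2,
    ⟨_, S.z_mem_E _ j, mv⟩⟩, mv⟩
  rcases (h4 hy).2 with h | h <;> rw [h]
  exacts [hy, mul_mem hy (S.x_mem_E _ _)]

variable (S) in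
def Active (i : ι) (b : Bool) : Prop := ∃ k, cj(k, S.R i b) ≤ S.J ∧ k ∉ 𝐍[S.J]

theorem active_of {j : ι} {b : Bool} {g : G} (h1 : ∀ l, l ≠ j → ∀ b', g * S.x l b' * g⁻¹ ∈ S.J)
    (h2 : Fx g (S.x j b)) (h3 : g * S.z j * g⁻¹ = S.z j * S.x j b) : S.Active j b := by
  refine ⟨g, cj_le_iff.2 (S.R_le_of (mem_cj.2 ?_) (mem_cj.2 ?_) fun l hl b' => mem_cj.2 ?_), fun hg => ?_⟩
  · rw [inv_inv, h3]; exact mul_mem (S.z_mem _) (S.x_mem _ _)
  · rw [inv_inv, h2]; exact S.x_mem _ _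
  · rw [inv_inv]; exact h1 l hl b'
  · obtain ⟨l, hl, -⟩ := S.perm hg j
    refine S.not_fx_x_x j b ?_
    rw [eq_inv_mul_of_mul_eq (h3.symm.trans hl)]
    exact (S.fx_x_z _ _ _).inv.mul (S.fx_x_z _ _ _)

theorem Active.pull {h : G} (hh : h ∈ 𝐍[S.J]) {i j : ι} (hz : h * S.z i * h⁻¹ = S.z j) (H : ∀ b, S.Active j b)
    (b : Bool) : S.Active i b := by
  obtain ⟨b', h1⟩ := conj_fx_x hh hz b
  obtain ⟨k, h2, h3⟩ := H b'
  refine ⟨k * h, ?_, fun e => h3 ((mul_mem_cancel_right hh).1 e)⟩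
  rw [cj_mul]
  exact (cj_mono k (cj_le_iff_forall.2 fun y hy => (cj_R hh h1).2 hy)).trans h2

theorem active_of_transfer (hG : ∀ H : Subgroup G, H.index ≠ 2) {z : G} (hN : 𝐍[S.J] ≤ centralizer {z})
    (s : centralizer {z} →* ℤˣ) {i : ι} {b : Bool} (hs : ∀ h, s ⟨S.x i b, h⟩ = -1) : S.Active i b := by
  haveI : Fact (Nat.Prime 2) := ⟨Nat.prime_two⟩
  obtain ⟨T, hT, hJT⟩ := exists_isSyl_ge (L := ⊤) S.J_pgroup le_top
  have hTC := (S.le_normalizer_of_pgroup hT.pgrp hJT).trans hN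
  have hm : ∀ {t} (h : t ∈ centralizer {z}), t ∈ s.ker.map (centralizer {z}).subtype ↔ s ⟨t, h⟩ = 1 :=
    fun {t} h => mem_map_subtype (x := ⟨t, h⟩)
  have hx := hJT (S.x_mem i b)
  rcases Transfer.thompson_transfer_extremal (P := T) (Q := T ⊓ s.ker.map (centralizer {z}).subtype)
    (by
      have := hT.not_dvd_relIndex
      rw [relIndex_top_right] at this
      exact Nat.not_even_iff_odd.1 fun e => this (even_iff_two_dvd.1 e)) inf_le_left
    (relIndex_eq_two_iff_exists_notMem_and.2 ⟨_, hx, fun e => by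
      have := (hm (hTC hx)).1 e.2
      rw [hs] at this
      exact absurd this (by decide), fun t ht => by
      rcases Int.units_eq_one_or (s ⟨t, hTC ht⟩) with h | h
      · exact Or.inr ⟨ht, (hm _).2 h⟩
      · refine Or.inl ⟨mul_mem ht hx, (hm (hTC (mul_mem ht hx))).2 ?_⟩
        rw [show (⟨t * S.x i b, _⟩ : centralizer {z}) = ⟨t, hTC ht⟩ * ⟨_, hTC hx⟩ from rfl, map_mul, h, hs]; simp⟩)
    (u := S.x i b) (by rw [sq, x_sq]) (T := S.R i b) (S.J_pgroup.to_le (S.R_le i b))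
    (fun t ht => (S.mem_R_iff.1 ht).2.comm.symm) with ⟨M, -, h2, -⟩ | ⟨g, h1, h2⟩
  · exact absurd h2 (hG M)
  have h3 : ∀ γ : ι → Bool, γ i = b → S.E γ ≤ cj(g⁻¹, S.J) := fun γ hγ =>
    cj_le_iff.1 (S.big_le hT.pgrp hJT ((S.big_E γ).cj g) ((cj_mono g (S.E_le_R hγ)).trans h2))
  refine ⟨g, cj_le_iff.2 (S.R_le_of (h3 (fun _ => b) rfl (S.z_mem_E _ _)) (h3 (fun _ => b) rfl (S.x_mem_E _ i))
    fun l hl b' => h3 (Function.update (fun _ => b) l b') (by simp [hl.symm])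
      (by simpa using S.x_mem_E (Function.update (fun _ => b) l b') l)), fun hg => ?_⟩
  have h4 := (hm (hTC h1.1)).1 h1.2
  rw [show (⟨g * S.x i b * g⁻¹, _⟩ : centralizer {z}) = ⟨g, hN hg⟩ * ⟨_, hTC hx⟩ * ⟨g, hN hg⟩⁻¹ from rfl,
    map_mul, map_mul, map_inv, hs] at h4
  simp at h4

end Sig

end Cfsg.Agent.AltC
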