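import Mathlib
import Cfsg.Agent.AltC.Twist
import Cfsg.Agent.AltC.Full

/-! Characterization of `A_m`, `m ≡ 2, 3 (mod 4)`, by the centralizer of any involution. -/

set_option autoImplicit false
set_option linter.unusedSectionVars false

namespace Cfsg.Agent.AltC

open Subgroup Cfsg.Agent.PLocal.Amb Equiv Equiv.Perm

variable {G : Type*} [Group G]

namespace Sig

variable {ι : Type*} [DecidableEq ι] [Fintype ι] [Finite G] {S : Sig G ι} {I : Finset ι} {ω : G}

theorem ce_of (hz : S.HZ ω) {i j : ι} (hij : i ≠ j) : S.CE fun l => decide (l = i) :=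
  hz.ce (i := j) (by simpa using hij.symm)

theorem vv_of_lt (hz : S.HZ ω) (hw : ∀ π, ∃ g, S.Ind g π) {i j : ι} (hij : i ≠ j) {u w : G}
    (u1 : ∀ l, l ≠ j → ∀ b, Fx u (S.x l b)) (u2 : Fx u (S.x j true)) (u3 : u * S.z j * u⁻¹ = S.z j * S.x j true)
    (w1 : ∀ l, l ≠ j → Fx w (S.x l true)) (w1' : ∀ l, l ≠ j → Fx w (S.z l)) (w2 : Fx w (S.x j false))
    (w3 : w * S.z j * w⁻¹ = S.z j * S.x j false) : S.VV ω := by
  have u1' : ∀ l, l ≠ j → Fx u (S.z l) := fun l hl => fx_z_of (u1 l hl)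
  have tv : ∀ γ : ι → Bool, γ j = true → Tv (S.E γ) u (S.x j (γ j)) ∧ ¬ Fx u (S.z j) := fun γ hγ =>
    tv_of_gen (fun l => by
      by_cases hl : l = j
      exacts [hl ▸ hγ ▸ u2, u1 l hl _]) u1' (hγ ▸ u3)
  obtain ⟨t1, mv⟩ := tv (fun l => decide (l = j)) (by simp)
  obtain ⟨g₁, a₁, A₁⟩ := act_of_tv (ce_of hz hij.symm) t1 mv u1'
  rw [decide_eq_true rfl] at A₁
  have h1 : Fx g₁ (S.x i false) := ((A₁.uniq (by simp) t1 mv u1').2 _
    (by simpa [hij] using S.x_mem_E (fun l => decide (l = j)) i) (S.fx_x_x hij.symm _ _)).1 (u1 i hij _)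
  obtain ⟨g, a, A⟩ := act_all hz hw A₁ i
  have h2 := u1_all hz hw hij.symm A₁ h1 hij A
  obtain ⟨t2, mv2⟩ := tv_of_gen (S := S) (γ := fun l => decide (l ≠ j)) (j := j) (g := w) (fun l => by
      by_cases hl : l = j
      exacts [by simpa [hl] using w2, by simpa [hl] using w1 l hl]) w1' (by simpa using w3)
  have h3 := S.tv_symm (A.tv (by simpa using hij)) t2 (by simpa using h2)
  obtain ⟨s, hs⟩ := A.root
  have h4 : j ∉ s := fun hj => mv2 ((fx_z_iff hj fun l _ hl => w1' l hl).1 (by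
    rw [hs] at h3
    simpa using (w1 i hij).inv.mul h3))
  have h5 : Fx u a := hs ▸ (u1 i hij _).mul (fx_zs fun l hl => u1' l fun e => h4 (e ▸ hl))
  have h6 := ((A₁.uniq (γ := fun _ => true) rfl (tv _ rfl).1 mv u1').2 _ (A.mem_E rfl) (A.fx_x_ne hij.symm _)).1 h5
  exact ⟨hz, hw, act_all hz hw A₁, fun h A' => u1_all hz hw hij.symm A₁ h1 h A',
    fun h A' A'' => u2_all hz hw hij.symm A₁ A h6 h A' A''⟩

theorem CD.norm_le (h : I = Finset.univ) : 𝐍[S.J] ≤ centralizer {S.φ (zs I)} := fun g hg => by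
  obtain ⟨σ, hσ⟩ := exists_perm_z hg
  refine mem_centralizer_singleton_iff.2 (Fx.comm ?_)
  rw [Fx, S.conj_zs hσ, h, Finset.image_univ_of_surjective σ.surjective]

theorem CD.vv_of_eq (h : S.CD I ω) (hG : ∀ H : Subgroup G, H.index ≠ 2) (hI : I = Finset.univ)
    (hw : ∀ π, ∃ g, S.Ind g π) {i j : ι} (hij : i ≠ j) : S.VV ω := by
  have link : ∀ {i j b g a g' a'}, i ≠ j → S.Act i true g a → S.Act j b g' a' → Fx g a' := by
    intro i j b g a g' a' hij A A'
    by_contra h1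
    let γ : ι → Bool := Function.update (fun _ => true) j b
    have t := A.tv (γ := γ) (by simp [γ, hij])
    have t' := A'.tv (γ := γ) (by simp [γ])
    obtain ⟨h2, h3⟩ := t.refl S.E_sq t' h1 fun e => h1 (S.tv_symm t' t e)
    have h4 : Fx (g * g' * g⁻¹) (S.φ (zs I)) := by
      rw [h3 _ (S.zs_mem_E _ _), fx_z_iff (j := i) (by simp [hI]) fun l _ hl => A.fx l hl,
        fx_z_iff (j := j) (by simp [hI]) fun l _ hl => A'.fx l hl]
      exact iff_of_false A.mv A'.mv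
    have h5 := h.m6 hI _ h4 i
    rw [h2.eq_of_not (S.z_mem_E _ i) fun e => A.mv (((h3 _ (S.z_mem_E _ i)).1 e).2 (A'.fx i hij))] at h5
    have h6 := (mem_E_iff.1 h5).2 i
    refine A.not_fx_x ?_
    simpa using (A'.fx_x_ne hij false).inv.mul ((S.fx_x_z i i false).inv.mul h6 :)
  obtain ⟨s, hs⟩ := h.s1 hI
  obtain ⟨k, k1, k2⟩ := active_of_transfer hG (CD.norm_le hI) s (hs i)
  obtain ⟨g, a, A⟩ := act_of_cj (i := i) (ce_of h.hz hij) (k := k) (by simpa using k1) k2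
  rw [decide_eq_true rfl] at A
  refine ⟨h.hz, hw, act_all h.hz hw A, fun {i j g a} hij A => ?_, link⟩
  obtain ⟨g', β, s, T, -⟩ := exists_W h.hz hw j
  have := link hij A T.act
  rcases β with _ | _
  exacts [this, Fx.of_mul this (A.fx j hij.symm)]

theorem CD.exists_w (h : S.CD I ω) {j : ι} (hj : j ∉ I) : ∃ w, (∀ l, l ≠ j → Fx w (S.x l true)) ∧
    (∀ l, l ≠ j → Fx w (S.z l)) ∧ Fx w (S.x j false) ∧ w * S.z j * w⁻¹ = S.z j * S.x j false ∧
    ∀ l, l ≠ j → w * S.x l false * w⁻¹ = S.x l false * S.x j false := by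
  obtain ⟨t, -, t1, t2⟩ := h.sw (some (j, false)) none (by simp [sd, hj])
  refine ⟨t, fun l hl => t2 l (by simp [hl.symm]) (by simp), fun l hl => t1.fx_z (by simp [hl.symm]) (by simp),
    ?_, ?_, fun l hl => ?_⟩
  · rw [← e_x, Fx, t1, swap_apply_left, swap_apply_right, e_comm]
  · rw [← e_z, t1, swap_apply_left, swap_apply_of_ne_of_ne (by simp) (by simp), ← e_x,
      S.e_comm (some (j, false)), e_mul, e_comm]
  · rw [← S.e_x l, t1, swap_apply_right, swap_apply_of_ne_of_ne (by simp [hl]) (by simp), e_none]; rfl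

theorem CD.exists_act (h : S.CD I ω) (h0 : S.S0 I) (hG : ∀ H : Subgroup G, H.index ≠ 2) :
    ∃ i ∈ I, ∃ g a, S.Act i false g a := by
  suffices ∃ i ∈ I, S.Active i false by
    obtain ⟨i, hi, k, k1, k2⟩ := this
    exact ⟨i, hi, act_of_cj (γ := fun _ => false) (h.hz.ce (i := i) rfl) k1 k2⟩
  by_cases hN : 𝐍[S.J] ≤ centralizer {S.φ (zs I)}
  · obtain ⟨s, hs⟩ := h0
    obtain ⟨i, hi⟩ := h.ne
    exact ⟨i, hi, active_of_transfer hG hN s (hs i hi)⟩
  obtain ⟨k, hk, hk'⟩ := SetLike.not_le_iff_exists.1 hN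
  obtain ⟨σ, hσ⟩ := exists_perm_z hk
  obtain ⟨i, hi, hi'⟩ : ∃ i ∈ I, σ i ∉ I := by
    by_contra hc
    push Not at hc
    refine hk' (mem_centralizer_singleton_iff.2 (Fx.comm ?_))
    rw [Fx, S.conj_zs hσ, Finset.eq_of_subset_of_card_le (Finset.image_subset_iff.2 hc)
      (Finset.card_image_of_injective _ σ.injective).ge]
  refine ⟨i, hi, Active.pull hk (hσ i) ?_ _⟩
  rintro (_ | _)
  · obtain ⟨w, w1, -, w2, w3, w4⟩ := h.exists_w hi'
    refine active_of ?_ w2 w3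
    rintro l hl (_ | _)
    · rw [w4 l hl]; exact mul_mem (S.x_mem _ _) (S.x_mem _ _)
    · rw [w1 l hl]; exact S.x_mem _ _
  · obtain ⟨g, -, g1, g2, g3⟩ := h.gv _ hi'
    exact active_of (fun l hl b => by rw [g1 l hl]; exact S.x_mem _ _) g2 g3

theorem Ind.not_fx_x {l : ι} {β : Bool} {q : Pt ι} (hq : ∀ β, q ≠ some (l, β)) :
    ¬ Fx (S.x l true) (S.e (some (l, β)) q) := by
  rw [Fx, S.ind_x l, swap_apply_of_ne_of_ne (hq _) (hq _), S.e_comm _ q, S.e_comm _ q]
  intro e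
  have := S.e_inj e
  cases β <;> simp at this

theorem CD.claw (h : S.CD I ω) {i : ι} {g : G} {β : Bool} {s : Finset ι}
    (A : S.Act i false g (S.b (some (i, β)) * S.φ (zs s))) (hi : i ∉ s) {l l' : ι} (hl : l ∈ s) (hl' : l' ∉ s)
    (hl'i : l' ≠ i) (hs : l ∈ I ↔ l' ∈ I) : False := by
  haveI : Nonempty ι := ⟨i⟩
  have hll : l ≠ l' := fun e => hl' (e ▸ hl)
  have hli : l ≠ i := fun e => hi (e ▸ hl)
  have key : ∀ γ, ∃ t, S.Ind t (swap (some (l, γ)) (some (l', γ))) ∧ ¬ Fx t (S.b (some (i, β)) * S.φ (zs s)) ∧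
      Fx t (S.z i) ∧ S.e (some (l, γ)) (some (l', γ)) ≠ S.z i := fun γ => by
    obtain ⟨t, -, t1, -⟩ := h.sw (some (l, γ)) (some (l', γ)) (by simp [sd, hs])
    refine ⟨t, t1, fun hf => t1.not_fx_z (by simp [hll.symm]) ((fx_z_iff hl fun m hm hml => t1.fx_z
      (by simp [hml.symm]) (by simp [show l' ≠ m from fun e => hl' (e ▸ hm)])).1 ?_),
      t1.fx_z (by simp [hli]) (by simp [hl'i]), fun e => Ind.not_fx_x (S := S) (l := l) (β := γ)
        (q := some (l', γ)) (by simp [hll.symm]) (e ▸ S.fx_x_z _ _ _)⟩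
    have h1 := t1.fx_e (p := some (i, β)) (q := none) (swap_apply_of_ne_of_ne (by simp [hli.symm]) (by simp [hl'i.symm]))
      (swap_apply_of_ne_of_ne (by simp) (by simp))
    rw [e_none] at h1
    simpa using h1.inv.mul hf
  obtain ⟨t₁, a1, a2, a3, a4⟩ := key false
  obtain ⟨t₂, b1, b2, b3, b4⟩ := key true
  refine S.no_claw (A.tv (γ := fun _ => false) rfl) (a1.tv (by simp [hll])) (b1.tv (by simp [hll]))
    (S.tv_x (fun _ => false) i) (fun e => hll (S.z_inj ?_)) a4 b4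
    (a1.fx_e (swap_apply_of_ne_of_ne (by simp) (by simp)) (swap_apply_of_ne_of_ne (by simp) (by simp))) a3 b3
    a2 b2 A.not_fx_x
  rw [← e_z, ← e_z, ← S.e_mul _ (some (l', false)), e, S.E0_comm (S.e_mem _ _) (S.e_mem _ _), e_mul]

theorem CD.claw' (h : S.CD I ω) {i : ι} (hi : i ∈ I) {g : G} {β : Bool} {s : Finset ι}
    (A : S.Act i false g (S.b (some (i, β)) * S.φ (zs s))) {j j' : ι} (hj : j ∈ s) (hj' : j' ∈ s) (hjj : j ≠ j')
    (h1 : j ∉ I) (h2 : j' ∉ I) : False := by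
  have key : ∀ j ∈ s, j ∉ I → ∃ t, Tv (S.E fun l => decide (l ∉ I)) t (S.x j true) ∧
      ¬ Fx t (S.b (some (i, β)) * S.φ (zs s)) ∧ (∀ l, l ≠ j → ∀ b, Fx t (S.x l b)) ∧ S.x j true ≠ S.z i := by
    intro j hj h1
    obtain ⟨t, -, t1, t2, t3⟩ := h.gv j h1
    have hij : i ≠ j := fun e => h1 (e ▸ hi)
    obtain ⟨tv, mv⟩ := tv_of_gen (S := S) (γ := fun l => decide (l ∉ I)) (j := j) (g := t) (fun l => by
        by_cases hl : l = j
        exacts [by simpa [hl, h1] using t2, t1 l hl _]) (fun l hl => fx_z_of (t1 l hl)) (by simpa [h1] using t3)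
    refine ⟨t, by simpa [h1] using tv, fun hf => mv ((fx_z_iff hj fun l _ hl => fx_z_of (t1 l hl)).1 ?_), t1,
      fun e => S.not_fx_x_x j true (e ▸ S.fx_x_z _ _ _)⟩
    have h3 : Fx t (S.b (some (i, β))) := by
      rcases β with _ | _
      exacts [t1 i hij _, (t1 i hij _).mul (fx_z_of (t1 i hij))]
    simpa using h3.inv.mul hf
  obtain ⟨t₁, a1, a2, a3, a4⟩ := key j hj h1
  obtain ⟨t₂, b1, b2, b3, b4⟩ := key j' hj' h2
  exact S.no_claw (A.tv (by simpa using hi)) a1 b1 (S.tv_x _ i)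
    (fun e => S.not_fx_x_x j true (e ▸ S.fx_x_x hjj _ _)) a4 b4 (a3 _ hjj.symm _)
    (fx_z_of (a3 i fun e => h1 (e ▸ hi))) (fx_z_of (b3 i fun e => h2 (e ▸ hi))) a2 b2
    (by simpa [hi] using A.not_fx_x)

theorem sd_swap {p q r : Pt ι} (h : sd I p = sd I q) : sd I (swap p q r) = sd I r := by
  rw [swap_apply_def]
  split_ifs with h1 h2
  exacts [h1 ▸ h.symm, h2 ▸ h, rfl]

theorem CD.twist (h : S.CD I ω) {i j : ι} (hi : i ∈ I) (hI : ∀ l, l ∉ I ↔ l = j) {g : G} {β : Bool}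
    (A : S.Act i false g (S.b (some (i, β)) * S.z j)) : ∃ S' : Sig G ι, (∀ l, S'.z l = S.z l) ∧ S'.VV ω := by
  have hj : j ∉ I := (hI j).2 rfl
  have hij : i ≠ j := fun e => hj (e ▸ hi)
  have hI' : ∀ l, l ≠ j → l ∈ I := fun l hl => not_not.1 fun e => hl ((hI l).1 e)
  obtain ⟨S₁, J1, z1, t1, f1⟩ := S.tw1 I {j}
  obtain ⟨S', J2, z2, t2, f2⟩ := S₁.tw2 j
  have hJ := J2.trans J1
  have hz : ∀ l, S'.z l = S.z l := fun l => (z2 l).trans (z1 l)
  have xt : ∀ l, l ≠ j → S'.x l true = S.x l true := fun l hl => (f2 l hl _).trans (t1 l)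
  have xf : ∀ l, l ≠ j → S'.x l false = S.x l false * S.z j := fun l hl => by
    rw [f2 l hl, f1, if_pos (hI' l hl), zs_singleton, z_eq]
  have jf : S'.x j false = S.x j true := (t2 _).trans (t1 j)
  have jt : S'.x j true = S.x j false := by rw [t2, Bool.not_true, f1, if_neg hj, mul_one]
  clear J1 J2 z1 z2 t1 t2 f1 f2 S₁
  have hb : ∀ r, sd I r = true → S'.b r = S.b r * S.z j := by
    rintro (_ | ⟨l, γ⟩) hr
    · simp [sd] at hr
    have hl : l ≠ j := by rintro rfl; simp [sd, hj] at hr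
    rcases γ with _ | _
    · exact xf l hl
    · change S'.x l false * S'.z l = S.x l false * S.z l * S.z j
      rw [xf l hl, hz, mul_assoc, mul_assoc, S.z_comm l (S.z_mem j)]
  have hc : ∀ r, sd I r = true ∨ r = none ∨ r = some (j, false) ∨ r = some (j, true) := by
    rintro (_ | ⟨l, γ⟩)
    · simp
    by_cases hl : l = j
    · cases γ <;> simp [hl]
    · simp [sd, hI' l hl]
  have n1 : ∀ {r}, sd I r = true → r ≠ none ∧ ∀ γ, r ≠ some (j, γ) := fun {r} hr =>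
    ⟨by rintro rfl; simp [sd] at hr, by rintro γ rfl; simp [sd, hj] at hr⟩
  obtain ⟨u, -, u1, u2, u3⟩ := h.gv j hj
  obtain ⟨w, w1, w1', w2, w3, w4⟩ := h.exists_w hj
  have I1 : S'.Ind u (swap (some (j, false)) none) := ind_of_b fun r => by
    rw [swap_apply_right]
    rcases hc r with hr | rfl | rfl | rfl
    · rw [swap_apply_of_ne_of_ne ((n1 hr).2 _) (n1 hr).1, e, hb r hr, conj_mul_conj, u3, ← mul_assoc, ← jf]
      congr 2
      obtain _ | ⟨l, γ⟩ := r
      · simp [sd] at hr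
      have hl : l ≠ j := by rintro rfl; simp [sd, hj] at hr
      rcases γ with _ | _
      exacts [u1 l hl _, (u1 l hl _).mul (fx_z_of (u1 l hl))]
    · rw [swap_apply_right, e_self]; simp [b]
    · rw [swap_apply_left, e_comm, e_none]; exact (jf ▸ u2 : Fx u (S'.x j false))
    · rw [swap_apply_of_ne_of_ne (by simp) (by simp), e_comm, e_z]
      change u * (S'.x j false * S'.z j) * u⁻¹ = _
      rw [jf, hz, conj_mul_conj, u2, u3, ← S.z_comm j (S.x_mem _ _), ← mul_assoc, x_sq, one_mul]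
  have I2 := (S'.ind_x j).conj_swap I1
  rw [swap_apply_left, swap_apply_of_ne_of_ne (by simp) (by simp)] at I2
  have hw : ∀ π, ∃ g, S'.Ind g π := by
    refine hw_of (I := I) (fun p q hpq => ?_) (p₀ := some (i, β)) (by simpa [sd] using hi) (g := g) ?_
    · by_cases hp : sd I p = true
      · obtain ⟨t, -, t1, t2⟩ := h.sw p q hpq
        have hq := hpq ▸ hp
        have t3 := t1.fx_z (n1 hp).2 (n1 hq).2
        have t4 := t2 j (n1 hp).2 (n1 hq).2
        refine ⟨t, ind_of_b fun r => ?_⟩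
        rw [swap_apply_of_ne_of_ne (x := none) (n1 hp).1.symm (n1 hq).1.symm, e_none]
        rcases hc r with hr | rfl | rfl | rfl
        · rw [hb r hr, hb _ ((sd_swap hpq).trans hr), conj_mul_conj, t3, ← e_none, t1,
            swap_apply_of_ne_of_ne (x := none) (n1 hp).1.symm (n1 hq).1.symm, e_none]
        · rw [swap_apply_of_ne_of_ne (n1 hp).1.symm (n1 hq).1.symm]; simp [b]
        · rw [swap_apply_of_ne_of_ne ((n1 hp).2 _).symm ((n1 hq).2 _).symm]; exact (jf ▸ t4 : Fx t (S'.x j false))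
        · rw [swap_apply_of_ne_of_ne ((n1 hp).2 _).symm ((n1 hq).2 _).symm]
          change Fx t (S'.x j false * S'.z j)
          rw [jf, hz]; exact t4.mul t3
      · have h1 : ∃ g, S'.Ind g 1 := ⟨1, ind_of_mem (one_mem _)⟩
        rcases (hc p).resolve_left hp with rfl | rfl | rfl <;>
          rcases (hc q).resolve_left (hpq ▸ hp) with rfl | rfl | rfl
        · rwa [swap_self]
        · rw [swap_comm]; exact ⟨_, I1⟩
        · rw [swap_comm]; exact ⟨_, I2⟩
        · exact ⟨_, I1⟩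
        · rwa [swap_self]
        · exact ⟨_, S'.ind_x j⟩
        · exact ⟨_, I2⟩
        · rw [swap_comm]; exact ⟨_, S'.ind_x j⟩
        · rwa [swap_self]
    · have e : S'.E0 = S.E fun l => decide (l = j) := by
        ext y
        rw [mem_E_iff, mem_E_iff, hJ]
        refine and_congr_right fun hy => forall_congr' fun l => ?_
        by_cases hl : l = j
        · simp [hl, jf]
        · simp [hl, xf l hl, fx_mul_central (fx_of_comm (S.z_comm j hy).symm)]
      rw [e, hb _ (by simpa [sd] using hi)]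
      exact A.tv (by simpa using hij)
  obtain rfl : ω = 1 := by
    obtain ⟨k, hk⟩ := hw (ix (swap i j))
    have h1 : ∀ {k σ}, S'.Ind k (ix σ) → ∀ l, k * S.z l * k⁻¹ = S.z (σ l) := fun H l => by
      rw [← hz, ← e_z, H, ix_some, ix_some, e_z, hz]
    have h2 : k * (S.x i false * S.z j) * k⁻¹ = S.x j true := by
      rw [← xf i hij, ← e_x, hk, ix_some, ix_none, e_x, swap_apply_left, jf]
    have h3 : ∀ l, Fx ω (k⁻¹ * S.z l * k) := fun l => by
      obtain ⟨l, rfl⟩ := (swap i j).surjective l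
      rw [← h1 hk]; simpa [mul_assoc] using h.hz.fx_z l
    have h4 : Fx (k * ω * k⁻¹) (S.x j true) := by
      rcases h.hz.conj_omega h3 with h4 | h4 <;> rw [h4]
      exacts [h.hz.fx j, (h.hz.fx j).inv_left]
    rw [← h2, fx_conj] at h4
    have h5 := (Fx.of_mul h4 (h.hz.fx_z j)).symm
    exact eq_one_of_inv h.hz.cube (Eq.trans (Eq.symm h5) (h.hz.inv i))
  refine ⟨S', hz, vv_of_lt ⟨one_pow _, fun _ => (fx_one _).symm, by simp, fun y hy => ?_⟩ hw hij (u := w) (w := u)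
    ?_ (jt ▸ w2) (by rw [hz, jt, w3]) (fun l hl => xt l hl ▸ u1 l hl _) (fun l hl => hz l ▸ fx_z_of (u1 l hl))
    (jf ▸ u2) (by rw [hz, jf, u3])⟩
  · rw [hJ]; exact h.hz.cent y fun l => hz l ▸ hy l
  · rintro l hl (_ | _)
    · rw [xf l hl, Fx, conj_mul_conj, w4 l hl, w3, ← S.z_comm j (S.x_mem _ _), mul_assoc, ← mul_assoc (S.x j false),
        x_sq, one_mul]
    · exact xt l hl ▸ w1 l hl

theorem CD.vv_of_root (h : S.CD I ω) (hG : ∀ H : Subgroup G, H.index ≠ 2) {i₀ j₀ : ι} (h0 : i₀ ≠ j₀) {i : ι}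
    (hi : i ∈ I) {g : G} {β : Bool} {s : Finset ι} (A : S.Act i false g (S.b (some (i, β)) * S.φ (zs s)))
    (hs : ∀ l ∈ s, l ∉ I) : ∃ S' : Sig G ι, (∀ l, S'.z l = S.z l) ∧ S'.VV ω := by
  rcases s.eq_empty_or_nonempty with rfl | ⟨j, hj⟩
  · rw [zs_empty, map_one, mul_one] at A
    have hw := hw_of (fun p q hpq => (h.sw p q hpq).imp fun _ h => h.2.1) (p₀ := some (i, β))
      (by simpa [sd] using hi) (A.tv rfl)
    refine ⟨S, fun _ => rfl, ?_⟩
    by_cases hI : I = Finset.univ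
    · exact h.vv_of_eq hG hI hw h0
    obtain ⟨j, hj⟩ : ∃ j, j ∉ I := by simpa [Finset.eq_univ_iff_forall] using hI
    obtain ⟨u, -, u1, u2, u3⟩ := h.gv j hj
    obtain ⟨w, w1, w1', w2, w3, -⟩ := h.exists_w hj
    exact vv_of_lt h.hz hw (i := i) (j := j) (fun e => hj (e ▸ hi)) u1 u2 u3 w1 w1' w2 w3
  have h1 : ∀ l, l ∉ I ↔ l = j := fun l => ⟨fun hl => by
    by_contra hlj
    by_cases hls : l ∈ s
    · exact h.claw' hi A hls hj hlj hl (hs j hj)
    · exact h.claw A (fun e => hs i e hi) hj hls (fun e => hl (e ▸ hi)) (iff_of_false (hs j hj) hl),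
    fun e => e ▸ hs j hj⟩
  obtain rfl : s = {j} := Finset.eq_singleton_iff_unique_mem.2 ⟨hj, fun l hl => (h1 l).1 (hs l hl)⟩
  rw [zs_singleton, z_eq] at A
  exact h.twist hi h1 A

theorem CD.vv (h : S.CD I ω) (h0 : S.S0 I) (hG : ∀ H : Subgroup G, H.index ≠ 2) {i₀ j₀ : ι} (hij : i₀ ≠ j₀) :
    ∃ S' : Sig G ι, (∀ l, S'.z l = S.z l) ∧ S'.VV ω := by
  obtain ⟨i, hi, g, a, A⟩ := h.exists_act h0 hG
  obtain ⟨β, s, his, rfl⟩ := A.root'
  by_cases hs : ∀ l ∈ s, l ∉ I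
  · exact h.vv_of_root hG hij hi A hs
  push Not at hs
  obtain ⟨l, hl, hlI⟩ := hs
  have h1 : ∀ l' ∈ I, l' ≠ i → l' ∈ s := fun l' h1 h2 => not_not.1 fun h3 =>
    h.claw A his hl h3 h2 (iff_of_true hlI h1)
  obtain ⟨S', hJ, hz, xt, xf⟩ := S.tw1 I I
  have hzs := zs_congr hz
  have cz : ∀ {y}, y ∈ S.J → ∀ c : Prop, [Decidable c] → Fx (if c then S.φ (zs I) else 1) y := fun hy c _ => by
    split_ifs
    exacts [fx_zs_J _ hy, (fx_one _).symm]
  have hx : ∀ i b, ∀ y ∈ S.J, Fx (S'.x i b) y ↔ Fx (S.x i b) y := by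
    rintro i (_ | _) y hy
    exacts [by rw [xf, fx_mul_central (cz hy _)], by rw [xt]]
  have hb : ∀ r, S'.b r = S.b r * if sd I r = true then S.φ (zs I) else 1 := by
    rintro (_ | ⟨l, _ | _⟩)
    · simp [b, sd]
    · simp only [sd, decide_eq_true_eq]; exact xf l
    · change S'.x l false * S'.z l = S.x l false * S.z l * _
      rw [xf, hz, mul_assoc, (cz (S.z_mem l) _).comm, mul_assoc]; simp [sd]
  have fz : ∀ {t}, Fx t (S.φ (zs I)) → ∀ c : Prop, [Decidable c] → Fx t (if c then S.φ (zs I) else 1) :=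
    fun ht c _ => by
      split_ifs
      exacts [ht, fx_one _]
  have h' : S'.CD I ω := by
    refine ⟨h.ne, ⟨h.hz.cube, fun l => xt l ▸ h.hz.fx l, fun l => ?_, fun y hy => ?_⟩, fun p q hpq => ?_,
      fun j hj => ?_, fun hI y hy l => ?_, fun hI => ?_⟩
    · rw [xf, ← h.hz.inv l]
      conv_rhs => rw [← (fz (fx_zs fun m _ => h.hz.fx_z m) (l ∈ I)).symm]
      group
    · rw [hJ]; exact h.hz.cent y fun l => hz l ▸ hy l
    · obtain ⟨t, t1, t2, t3⟩ := h.sw p q hpq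
      refine ⟨t, hzs I ▸ t1, fun r r' => ?_, fun l h2 h3 => xt l ▸ t3 l h2 h3⟩
      have e1 : ∀ r r', S'.e r r' = S.e r r' * ((if sd I r = true then S.φ (zs I) else 1) *
          if sd I r' = true then S.φ (zs I) else 1) := fun r r' => by
        rw [e, e, hb, hb, mul_assoc, ← mul_assoc _ (S.b r'), (cz (S.E_le _ (S.b_mem r')) _).comm]; group
      rw [e1, e1, conj_mul_conj, t2, sd_swap hpq, sd_swap hpq, (fz t1 _).mul (fz t1 _)]
    · obtain ⟨u, u0, u1, u2, u3⟩ := h.gv j hj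
      refine ⟨u, u0, ?_, xt j ▸ u2, by rw [hz, xt, u3]⟩
      rintro l hl (_ | _)
      · rw [xf]
        exact (u1 l hl _).mul (fz (fx_zs fun m hm => fx_z_of (u1 m fun e => hj (e ▸ hm))) _)
      · exact xt l ▸ u1 l hl _
    · have := mem_E_iff.1 (h.m6 hI y (hzs I ▸ hy) l)
      rw [hz, mem_E_iff, hJ]
      exact ⟨this.1, fun m => (hx _ _ _ this.1).2 (this.2 m)⟩
    · rw [hzs]
      simp only [xt]
      exact h.s1 hI
  have e : S.b (some (i, β)) * S.φ (zs s) = S'.b (some (i, !β)) * S'.φ (zs (s \ I)) := by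
    have e1 : S.b (some (i, β)) = S.b (some (i, !β)) * S.z i := by
      rcases β with _ | _
      · change _ = S.x i false * S.z i * S.z i
        rw [mul_assoc, z_sq, mul_one]; rfl
      · rfl
    rw [hb, hzs, if_pos (by simpa [sd] using hi), e1, mul_assoc, mul_assoc, ← z_eq, ← map_mul, ← map_mul]
    congr 2
    funext m
    by_cases h2 : m = i
    · simp [h2, ms_same, zs, his, hi]
    · by_cases h3 : m ∈ I
      · simp [ms_ne h2, zs, h3, h1 m h3 h2]
      · simp [ms_ne h2, zs, h3]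
  obtain ⟨S'', h2, h3⟩ := h'.vv_of_root hG hij hi (e ▸ A.congr hJ hz hx) (by simp)
  exact ⟨S'', fun l => (h2 l).trans (hz l), h3⟩

end Sig

theorem main {G : Type*} [Group G] [Finite G] (hG : ∀ H : Subgroup G, H.index ≠ 2) {n r : ℕ} (hr : r = 2 ∨ r = 3)
    {zt : alternatingGroup (Fin (4 * n + r))} (hzt : orderOf zt = 2) {z : G} (hz : orderOf z = 2)
    (e : centralizer ({z} : Set G) ≃* centralizer ({zt} : Set (alternatingGroup (Fin (4 * n + r))))) :
    (n = 1 ∧ r = 2 ∧ ∃ δ : D8 →* G, DC δ 1) ∨ Nonempty (G ≃* alternatingGroup (Fin (4 * n + r))) := by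
  have h1 : zt * zt = 1 := by rw [← sq, ← hzt, pow_orderOf_eq_one]
  have h2 : zt ≠ 1 := fun e => by simp [e] at hzt
  have h3 : z ≠ 1 := fun e => by simp [e] at hz
  obtain ⟨S₀, ω₀, I, f, f1, c0, s0, hω₀, hI⟩ := exists_model hr (Fintype.card_fin _) h1 h2
  have e' : centralizer ({zt} : Set _) ≃* centralizer {S₀.φ (zs I)} :=
    (f.subgroupMap _).trans (MulEquiv.subgroupCongr (by
      rw [← f1]
      ext y
      simp only [map_equiv_eq_comap_symm, mem_comap, mem_centralizer_singleton_iff]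
      rw [← f.injective.eq_iff]; simp))
  obtain ⟨S, ω, c, s, hz', hω⟩ := c0.transport s0 h3 (e.trans e')
  obtain ⟨i, hi⟩ := c.ne
  by_cases hn : ∃ j, i ≠ j
  · right
    obtain ⟨j, hij⟩ := hn
    obtain ⟨S', h4, h5⟩ := c.vv s hG hij
    obtain ⟨m, ψ, h6, h7, h8⟩ := h5.build hij
    obtain rfl : m = 4 * n + r := by
      rw [Fintype.card_fin, ne_eq, hω, hω₀] at h6
      omega
    obtain ⟨y, y1, y2⟩ := h8 I
    rw [Sig.zs_congr h4, hz'] at y1
    have y3 : y * y = 1 := h7.inj (by rw [map_mul, y1, ← sq, ← hz, pow_orderOf_eq_one, map_one])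
    obtain ⟨f', rfl⟩ := exists_equiv_inv rfl y3 h1 (by omega)
    have h9 : (centralizer {y}).map ψ = centralizer {z} := by
      refine eq_of_le_of_card_ge ?_ (le_of_eq ?_)
      · rintro _ ⟨u, hu, rfl⟩
        rw [mem_centralizer_singleton_iff, ← y1, ← map_mul, ← map_mul, mem_centralizer_singleton_iff.1 hu]
      · rw [card_map_of_injective h7.inj, card_centralizer_congr f', Nat.card_congr e.toEquiv]
    have h10 := h7.full hr n (Fintype.card_fin _) y3 (fun e => h3 (by rw [← y1, e, map_one])) fun g hg =>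
      map_le_range ψ _ (h9 ▸ mem_centralizer_singleton_iff.2 (y1 ▸ hg.comm))
    exact ⟨(MulEquiv.ofBijective ψ ⟨h7.inj, MonoidHom.range_eq_top.1 h10⟩).symm⟩
  push Not at hn
  haveI : Subsingleton (Fin n) := ⟨fun a b => (hn a).symm.trans (hn b)⟩
  obtain rfl : n = 1 := by
    have := Fintype.card_le_one_iff_subsingleton.2 this
    have := i.pos
    simp only [Fintype.card_fin] at *
    omega
  obtain ⟨δ, h4, -⟩ := c.hz.dc i
  rcases hr with rfl | rfl
  · exact Or.inl ⟨rfl, rfl, δ, (hω.2 (hω₀.2 rfl)) ▸ h4⟩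
  · exact Or.inr (rec7 h4 (fun e => by simpa using hω₀.1 (hω.1 e)) hG)

end Cfsg.Agent.AltC
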