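import Mathlib
import Cfsg.Agent.AltC.Main

/-! The number of classes of involutions. -/

set_option autoImplicit false

namespace Cfsg.Agent.AltC

open Subgroup Equiv Equiv.Perm

theorem card_classes_congr {G H : Type*} [Group G] [Group H] (e : G ≃* H) :
    Nat.card {c : ConjClasses G // ∃ x ∈ c.carrier, orderOf x = 2} =
      Nat.card {c : ConjClasses H // ∃ x ∈ c.carrier, orderOf x = 2} := by
  let f : ConjClasses G ≃ ConjClasses H := Quotient.congr e.toEquiv fun a b =>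
    ⟨e.toMonoidHom.map_isConj, fun h => show IsConj a b by simpa using e.symm.toMonoidHom.map_isConj h⟩
  refine Nat.card_congr (f.subtypeEquiv fun c => ?_)
  obtain ⟨a, rfl⟩ := ConjClasses.mk_surjective c
  change _ ↔ ∃ x ∈ (ConjClasses.mk (e a)).carrier, _
  simp only [ConjClasses.mem_carrier_iff_mk_eq, ConjClasses.mk_eq_mk_iff_isConj]
  constructor
  · rintro ⟨x, h1, h2⟩
    exact ⟨e x, e.toMonoidHom.map_isConj h1, by rw [e.orderOf_eq, h2]⟩
  · rintro ⟨x, h1, h2⟩
    exact ⟨e.symm x, by simpa using e.symm.toMonoidHom.map_isConj h1, by rw [e.symm.orderOf_eq, h2]⟩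

theorem card_classes_alt {α : Type*} [Fintype α] [DecidableEq α] {n r : ℕ} (hr : r = 2 ∨ r = 3)
    (hα : Fintype.card α = 4 * n + r) :
    Nat.card {c : ConjClasses (alternatingGroup α) // ∃ x ∈ c.carrier, orderOf x = 2} = n := by
  have h1 : ∀ j : Fin n, ∃ y : alternatingGroup α, y * y = 1 ∧ sp y = 4 * (j + 1) := fun j => by
    obtain ⟨y, y1, y2, -⟩ := exists_inv_disjoint (α := α) ∅ (j := j + 1) (by simp; omega)
    exact ⟨y, y1, y2⟩
  choose y y1 y2 using h1
  have h2 : ∀ j, orderOf (y j) = 2 := fun j => orderOf_eq_prime (by rw [sq, y1]) fun e => by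
    simpa [e, sp] using y2 j
  refine (Nat.card_eq_of_bijective (fun j : Fin n => (⟨ConjClasses.mk (y j), y j, ConjClasses.mem_carrier_mk, h2 j⟩ :
    {c : ConjClasses (alternatingGroup α) // ∃ x ∈ c.carrier, orderOf x = 2})) ⟨fun a b e => ?_, ?_⟩).symm.trans
    (Nat.card_fin n)
  · obtain ⟨k, hk⟩ := isConj_iff.1 (ConjClasses.mk_eq_mk_iff_isConj.1 (congrArg Subtype.val e))
    have := sp_conj k (y a)
    rw [hk, y2, y2] at this
    exact Fin.ext (by omega)
  · rintro ⟨c, x, h3, h4⟩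
    have h5 : x * x = 1 := by rw [← sq, ← h4, pow_orderOf_eq_one]
    obtain ⟨k, hk⟩ := sp_dvd h5
    have h6 := sp_pos (y := x) fun e => by simp [e] at h4
    have h7 := sp_le x
    refine ⟨⟨k - 1, by omega⟩, Subtype.ext ?_⟩
    change ConjClasses.mk _ = c
    rw [← ConjClasses.mem_carrier_iff_mk_eq.1 h3]
    refine ConjClasses.mk_eq_mk_iff_isConj.2 (isConj_iff.2 (exists_conj_alt (y1 _) h5 ?_ ?_))
    · change sp _ = sp _; rw [y2]; simp only; omega
    · change sp _ + 2 ≤ _; rw [y2]; simp only; omega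

theorem card_classes {G : Type*} [Group G] [Finite G] (hG : ∀ H : Subgroup G, H.index ≠ 2) {n r : ℕ}
    (hr : r = 2 ∨ r = 3) {zt : alternatingGroup (Fin (4 * n + r))} (hzt : orderOf zt = 2) {z : G} (hz : orderOf z = 2)
    (e : centralizer ({z} : Set G) ≃* centralizer ({zt} : Set (alternatingGroup (Fin (4 * n + r))))) :
    Nat.card {c : ConjClasses G // ∃ x ∈ c.carrier, orderOf x = 2} = n := by
  rcases main hG hr hzt hz e with ⟨rfl, -, δ, h⟩ | ⟨⟨f⟩⟩
  · refine Nat.card_eq_one_iff_unique.2 ⟨⟨?_⟩, ⟨⟨ConjClasses.mk z, z, ConjClasses.mem_carrier_mk, hz⟩⟩⟩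
    rintro ⟨c, x, h1, h2⟩ ⟨c', x', h3, h4⟩
    refine Subtype.ext ?_
    change c = c'
    rw [← ConjClasses.mem_carrier_iff_mk_eq.1 h1, ← ConjClasses.mem_carrier_iff_mk_eq.1 h3]
    exact ConjClasses.mk_eq_mk_iff_isConj.2 (isConj_iff.2 (h.one_class hG h2 h4))
  · rw [card_classes_congr f, card_classes_alt hr (Fintype.card_fin _)]

end Cfsg.Agent.AltC
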